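import Groth.Agent.ResProp.EF.K942.CoreIface
import Groth.Agent.ResProp.EF.K785.Nat

/-!
# From coordinates to `Grp.HasOneStep` (helper942)
-/

set_option autoImplicit false

open TensorProduct

universe u

noncomputable section

namespace Groth.Agent.ResProp.EF.K942

open Groth.Agent.ResProp.EF.Grp

section Coef

variable {k : Type u} [CommRing k] {V : Type u} [AddCommGroup V] [Module k V] {I : Type u} [Fintype I]
  (b : Module.Basis I k V) {W : Type u} [CommRing W] [Algebra k W]

theorem coef1_tmul (f : V →ₗ[k] k) (v : V) (w : W) : coef1 (k := k) (A := W) f (v ⊗ₜ w) = f v • w := by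
  simp [coef1]

theorem sum_coef1 (y : V ⊗[k] W) : ∑ i, b i ⊗ₜ[k] coef1 (k := k) (b.coord i) y = y := by
  induction y using TensorProduct.induction_on with
  | zero => simp
  | tmul v w =>
    simp only [coef1_tmul, TensorProduct.tmul_smul, TensorProduct.smul_tmul']
    rw [← TensorProduct.sum_tmul]
    congr 1
    exact b.sum_repr v
  | add x y hx hy =>
    conv_rhs => rw [← hx, ← hy]
    rw [← Finset.sum_add_distrib]
    exact Finset.sum_congr rfl fun i _ => by rw [map_add, TensorProduct.tmul_add]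

theorem coef1_ext {y y' : V ⊗[k] W} (h : ∀ i, coef1 (k := k) (b.coord i) y = coef1 (k := k) (b.coord i) y') :
    y = y' := by
  rw [← sum_coef1 b y, ← sum_coef1 b y']
  exact Finset.sum_congr rfl fun i _ => by rw [h]

theorem coef1_sum (f : I → W) (i : I) : coef1 (k := k) (b.coord i) (∑ j, b j ⊗ₜ[k] f j) = f i := by
  classical
  rw [map_sum, Finset.sum_eq_single i]
  · rw [coef1_tmul, b.coord_apply, b.repr_self, Finsupp.single_eq_same, one_smul]
  · intro j _ hj
    rw [coef1_tmul, b.coord_apply, b.repr_self, Finsupp.single_eq_of_ne (Ne.symm hj), zero_smul]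
  · intro h
    exact absurd (Finset.mem_univ i) h

theorem coef1_eq_sum (f : V →ₗ[k] k) (y : V ⊗[k] W) :
    coef1 (k := k) f y = ∑ i, f (b i) • coef1 (k := k) (b.coord i) y := by
  conv_lhs => rw [← sum_coef1 b y]
  rw [map_sum]
  exact Finset.sum_congr rfl fun i _ => coef1_tmul _ _ _

theorem coef2_tmul (f : V →ₗ[k] k) (v : V ⊗[k] W) (w : W) :
    coef2 (k := k) (A := W) f (v ⊗ₜ w) = coef1 (k := k) f v ⊗ₜ w := rfl

theorem sum_coef2 (y : (V ⊗[k] W) ⊗[k] W) :
    ∑ i, ((TensorProduct.mk k V W (b i)).rTensor W) (coef2 (k := k) (b.coord i) y) = y := by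
  induction y using TensorProduct.induction_on with
  | zero => simp
  | tmul v w =>
    simp only [coef2_tmul, LinearMap.rTensor_tmul, TensorProduct.mk_apply]
    rw [← TensorProduct.sum_tmul, sum_coef1 b v]
  | add x y hx hy =>
    conv_rhs => rw [← hx, ← hy]
    rw [← Finset.sum_add_distrib]
    exact Finset.sum_congr rfl fun i _ => by rw [map_add, map_add]

theorem coef2_ext {y y' : (V ⊗[k] W) ⊗[k] W}
    (h : ∀ i, coef2 (k := k) (b.coord i) y = coef2 (k := k) (b.coord i) y') : y = y' := by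
  rw [← sum_coef2 b y, ← sum_coef2 b y']
  exact Finset.sum_congr rfl fun i _ => by rw [h]

end Coef

section Data

variable {k : Type u} [CommRing k] {E : Gp k} (V : GMod E) {I : Type u} [Fintype I] [DecidableEq I]
  (b : Module.Basis I k V.V)

/-- matrix coefficients -/
def mc (i j : I) : E.O := coef1 (k := k) (b.coord i) (V.co.coact (b j))

theorem coact_basis (j : I) : V.co.coact (b j) = ∑ i, b i ⊗ₜ[k] mc V b i j := (sum_coef1 b _).symm

/-- `coef1 (coord i) ∘ coact = Σ_j coord j • mc i j` -/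
theorem coef1_coact (i : I) (v : V.V) :
    coef1 (k := k) (b.coord i) (V.co.coact v) = ∑ j, b.coord j v • mc V b i j := by
  conv_lhs => rw [← b.sum_repr v]
  rw [map_sum, map_sum]
  exact Finset.sum_congr rfl fun j _ => by rw [map_smul, map_smul]; rfl

theorem comul_mc (i j : I) :
    Coalgebra.comul (R := k) (mc V b i j) = ∑ l, mc V b i l ⊗ₜ[k] mc V b l j := by
  have h := LinearMap.congr_fun V.co.coassoc (b j)
  simp only [LinearMap.comp_apply, LinearEquiv.coe_coe] at h
  rw [coact_basis V b j] at h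
  simp only [map_sum, LinearMap.rTensor_tmul, LinearMap.lTensor_tmul] at h
  have h2 := congrArg (coef1 (k := k) (b.coord i)) h
  rw [coef1_sum b (fun l => Coalgebra.comul (R := k) (mc V b l j)) i] at h2
  rw [← h2, map_sum]
  refine Finset.sum_congr rfl fun l _ => ?_
  rw [coact_basis V b l, TensorProduct.sum_tmul, map_sum]
  simp only [TensorProduct.assoc_tmul]
  rw [coef1_sum b (fun m => mc V b m l ⊗ₜ[k] mc V b l j) i]

theorem counit_mc (i j : I) : Coalgebra.counit (R := k) (mc V b i j) = if i = j then 1 else 0 := by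
  have h := LinearMap.congr_fun V.co.counit_comp (b j)
  simp only [LinearMap.comp_apply, LinearMap.flip_apply, TensorProduct.mk_apply] at h
  rw [coact_basis V b j] at h
  simp only [map_sum, LinearMap.lTensor_tmul] at h
  have h2 := congrArg (coef1 (k := k) (b.coord i)) h
  rw [coef1_sum b (fun l => Coalgebra.counit (R := k) (mc V b l j)) i] at h2
  rw [h2, coef1_tmul, b.coord_apply, b.repr_self, Finsupp.single_apply, smul_eq_mul, mul_one]
  simp only [eq_comm]

/-- coordinates of a 2-cochain -/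
def zc (z : V.C 2) (i : I) : E.O ⊗[k] E.O := coef2 (k := k) (b.coord i) z

/-- values of a 3-cochain at points -/
def ev3 {R : Type u} [CommRing R] [Algebra k R] (f : V.V →ₗ[k] k) (g₁ g₂ g₃ : E.O →ₐ[k] R) :
    ((V.V ⊗[k] E.O) ⊗[k] E.O) ⊗[k] E.O →ₗ[k] R :=
  TensorProduct.lift ((LinearMap.mul k R).compl₁₂
    (((at2 g₁ g₂).toLinearMap) ∘ₗ coef2 (k := k) (A := E.O) f) g₃.toLinearMap)

theorem ev3_tmul {R : Type u} [CommRing R] [Algebra k R] (f : V.V →ₗ[k] k) (g₁ g₂ g₃ : E.O →ₐ[k] R)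
    (m : (V.V ⊗[k] E.O) ⊗[k] E.O) (c : E.O) :
    ev3 V f g₁ g₂ g₃ (m ⊗ₜ c) = at2 g₁ g₂ (coef2 (k := k) f m) * g₃ c := by
  simp [ev3]

theorem coef2_assoc_symm (f : V.V →ₗ[k] k) (v : V.V) (t : E.O ⊗[k] E.O) :
    coef2 (k := k) f ((TensorProduct.assoc k V.V E.O E.O).symm (v ⊗ₜ t)) = f v • t := by
  induction t using TensorProduct.induction_on with
  | zero => simp
  | add x y hx hy => rw [TensorProduct.tmul_add, map_add, map_add, hx, hy, smul_add]
  | tmul a c => rw [TensorProduct.assoc_symm_tmul, coef2_tmul, coef1_tmul, TensorProduct.smul_tmul']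

theorem ev3_assoc_symm {R : Type u} [CommRing R] [Algebra k R] (f : V.V →ₗ[k] k) (g₁ g₂ g₃ : E.O →ₐ[k] R)
    (m : V.V ⊗[k] E.O) (t : E.O ⊗[k] E.O) :
    ev3 V f g₁ g₂ g₃ ((TensorProduct.assoc k (V.V ⊗[k] E.O) E.O E.O).symm (m ⊗ₜ t)) =
      g₁ (coef1 (k := k) f m) * at2 g₂ g₃ t := by
  induction t using TensorProduct.induction_on with
  | zero => simp
  | add x y hx hy => rw [TensorProduct.tmul_add, map_add, map_add, hx, hy, map_add, mul_add]
  | tmul a c =>
    rw [TensorProduct.assoc_symm_tmul, ev3_tmul, coef2_tmul, at2, at2, Algebra.TensorProduct.productMap_apply_tmul,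
      Algebra.TensorProduct.productMap_apply_tmul, mul_assoc]

theorem cocycle_zc (z : V.C 2) (hz : V.d 2 z = 0) (R : Type u) [CommRing R] [Algebra k R]
    (g₁ g₂ g₃ : E.O →ₐ[k] R) (i : I) :
    ∑ j, g₁ (mc V b i j) * at2 g₂ g₃ (zc V b z j) - at2 (pmul g₁ g₂) g₃ (zc V b z i) +
      at2 g₁ (pmul g₂ g₃) (zc V b z i) - at2 g₁ g₂ (zc V b z i) = 0 := by
  have key : ∀ m : (V.V ⊗[k] E.O) ⊗[k] E.O, ev3 V (b.coord i) g₁ g₂ g₃ (V.d 2 m) =
      ∑ j, g₁ (mc V b i j) * at2 g₂ g₃ (coef2 (k := k) (b.coord j) m) -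
        at2 (pmul g₁ g₂) g₃ (coef2 (k := k) (b.coord i) m) +
      at2 g₁ (pmul g₂ g₃) (coef2 (k := k) (b.coord i) m) - at2 g₁ g₂ (coef2 (k := k) (b.coord i) m) := by
    intro m
    induction m using TensorProduct.induction_on with
    | zero => simp
    | add x y hx hy =>
      rw [map_add, map_add, hx, hy]
      simp only [map_add, mul_add, Finset.sum_add_distrib]
      ring
    | tmul w c =>
      induction w using TensorProduct.induction_on with
      | zero => simp
      | add x y hx hy =>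
        rw [TensorProduct.add_tmul, map_add, map_add, hx, hy]
        simp only [map_add, mul_add, Finset.sum_add_distrib]
        ring
      | tmul v a =>
        have hd : V.d 2 ((v ⊗ₜ a) ⊗ₜ c) =
            ((V.co.coact v - v ⊗ₜ 1) ⊗ₜ a -
              (TensorProduct.assoc k V.V E.O E.O).symm (v ⊗ₜ (Coalgebra.comul (R := k) a - a ⊗ₜ 1 - 1 ⊗ₜ a))) ⊗ₜ c +
            (TensorProduct.assoc k (V.V ⊗[k] E.O) E.O E.O).symm
              ((v ⊗ₜ a) ⊗ₜ (Coalgebra.comul (R := k) c - c ⊗ₜ 1 - 1 ⊗ₜ c)) := by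
          change ((Hoch.d k E.O V.V 1).rTensor E.O + ((-1 : k) ^ 2) • Hoch.tail k E.O (Hoch.cochain k E.O V.V 1)) _ = _
          rw [LinearMap.add_apply, LinearMap.rTensor_tmul, LinearMap.smul_apply]
          have h1 : Hoch.d k E.O V.V 1 (v ⊗ₜ a) = (V.co.coact v - v ⊗ₜ 1) ⊗ₜ a -
              (TensorProduct.assoc k V.V E.O E.O).symm (v ⊗ₜ (Coalgebra.comul (R := k) a - a ⊗ₜ 1 - 1 ⊗ₜ a)) := by
            change ((Hoch.d k E.O V.V 0).rTensor E.O + ((-1 : k) ^ 1) • Hoch.tail k E.O (Hoch.cochain k E.O V.V 0)) _ = _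
            rw [LinearMap.add_apply, LinearMap.rTensor_tmul, LinearMap.smul_apply, pow_one, neg_smul, one_smul]
            rfl
          rw [h1, show ((-1 : k) ^ 2) = 1 by norm_num, one_smul]
          rfl
        have hv := coef1_coact V b i v
        rw [hd, map_add, ev3_tmul, ev3_assoc_symm, map_sub, coef2_assoc_symm]
        simp only [coef2_tmul, coef1_tmul, at2, pmul, map_sub, hv, map_sum, TensorProduct.sub_tmul,
          TensorProduct.sum_tmul, Algebra.TensorProduct.productMap_apply_tmul, AlgHom.comp_apply,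
          Bialgebra.comulAlgHom_apply, Algebra.smul_def, map_mul, AlgHom.commutes, map_one, mul_one]
        have hR : ∑ j, g₁ (mc V b i j) * (algebraMap k R (b.coord j v) * g₂ a * g₃ c) =
            (∑ j, algebraMap k R (b.coord j v) * g₁ (mc V b i j)) * (g₂ a * g₃ c) := by
          rw [Finset.sum_mul]
          exact Finset.sum_congr rfl fun j _ => by ring
        rw [hR, ← Finset.sum_mul]
        ring
  have h := key z
  rw [hz, map_zero] at h
  exact h.symm

/-- the coordinates of the data -/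
def coordOf (z : V.C 2) (hz : V.d 2 z = 0) (nz : ∀ f : V.V →ₗ[k] k, IsNat (coef2 (k := k) (A := E.O) f z)) :
    Coord k E.O I where
  a := mc V b
  comul_a := comul_mc V b
  counit_a := counit_mc V b
  z := zc V b z
  nat_z i := nz (b.coord i)
  cocycle R _ _ g₁ g₂ g₃ i := cocycle_zc V b z hz R g₁ g₂ g₃ i

end Data

theorem isNat_sum {A : Type u} [CommRing A] {I : Type u} (s : Finset I) (f : I → A) (h : ∀ i ∈ s, IsNat (f i)) :
    IsNat (∑ i ∈ s, f i) := (K785.natI A).sum_mem h

theorem isNat_smul {k A : Type u} [CommRing k] [CommRing A] [Algebra k A] (c : k) {a : A} (h : IsNat a) :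
    IsNat (c • a) := by
  rw [Algebra.smul_def]
  exact (K785.natI A).mul_mem_left _ h

section Res

variable {k : Type u} [CommRing k] {E E' : Gp k} (V : GMod E) (φ : E.O →ₐc[k] E'.O)

theorem coef1_map (f : V.V →ₗ[k] k) (m : V.V ⊗[k] E.O) :
    coef1 (k := k) f (TensorProduct.map LinearMap.id (φ : E.O →ₗ[k] E'.O) m) = φ (coef1 (k := k) f m) := by
  induction m using TensorProduct.induction_on with
  | zero => simp
  | add x y hx hy => rw [map_add, map_add, hx, hy, map_add, map_add]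
  | tmul v a =>
    rw [TensorProduct.map_tmul, coef1_tmul, coef1_tmul, LinearMap.id_apply, map_smul]
    rfl

theorem coef2_cres (f : V.V →ₗ[k] k) (m : V.C 2) :
    coef2 (k := k) f (cres φ V 2 m : (V.V ⊗[k] E'.O) ⊗[k] E'.O) =
      Algebra.TensorProduct.map (φ : E.O →ₐ[k] E'.O) (φ : E.O →ₐ[k] E'.O) (coef2 (k := k) f m) := by
  induction m using TensorProduct.induction_on with
  | zero => simp
  | add x y hx hy =>
    rw [map_add, map_add, hx, hy, map_add, map_add]
  | tmul w c =>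
    have h : (cres φ V 2 (w ⊗ₜ c) : (V.V ⊗[k] E'.O) ⊗[k] E'.O) =
        (TensorProduct.map LinearMap.id (φ : E.O →ₗ[k] E'.O) w) ⊗ₜ φ c := rfl
    rw [h, coef2_tmul, coef2_tmul, coef1_map, Algebra.TensorProduct.map_tmul]
    rfl

theorem coef2_d1_res (f : V.V →ₗ[k] k) (v : V.V) (y : E'.O) :
    coef2 (k := k) f ((V.res φ).d 1 (v ⊗ₜ y) : (V.V ⊗[k] E'.O) ⊗[k] E'.O) =
      (φ (coef1 (k := k) f (V.co.coact v)) - f v • 1) ⊗ₜ y -
        f v • (Coalgebra.comul (R := k) y - y ⊗ₜ 1 - 1 ⊗ₜ y) := by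
  have h1 : ((V.res φ).d 1 (v ⊗ₜ y) : (V.V ⊗[k] E'.O) ⊗[k] E'.O) =
      (TensorProduct.map LinearMap.id (φ : E.O →ₗ[k] E'.O) (V.co.coact v) - v ⊗ₜ 1) ⊗ₜ y -
      (TensorProduct.assoc k V.V E'.O E'.O).symm (v ⊗ₜ (Coalgebra.comul (R := k) y - y ⊗ₜ 1 - 1 ⊗ₜ y)) := by
    change ((@Hoch.d k _ E'.O _ _ V.V _ _ (V.res φ).co 0).rTensor E'.O +
      ((-1 : k) ^ 1) • Hoch.tail k E'.O (Hoch.cochain k E'.O V.V 0)) _ = _
    rw [LinearMap.add_apply, LinearMap.rTensor_tmul, LinearMap.smul_apply, pow_one, neg_smul, one_smul]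
    rfl
  rw [h1, map_sub, coef2_tmul, map_sub, coef1_map, coef1_tmul]
  congr 1
  exact coef2_assoc_symm (V.res φ) f v _

end Res

theorem hasOneStep_of_core {k : Type u} [CommRing k] (hC : Core k) (E : Gp k) : HasOneStep E := by
  intro V hfree hfin z hz nz
  classical
  let I := Module.Free.ChooseBasisIndex k V.V
  let b : Module.Basis I k V.V := Module.Free.chooseBasis k V.V
  letI : DecidableEq I := Classical.decEq I
  obtain ⟨O⟩ := hC E.O I (coordOf V b z hz nz)
  letI := O.cr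
  letI := O.ha
  haveI := O.fr
  let E' : Gp k := ⟨O.B⟩
  let ι : E.O →ₐc[k] E'.O := O.ι
  let x : V.V ⊗[k] E'.O := ∑ i, b i ⊗ₜ[k] O.X i
  have hxc : ∀ i, coef1 (k := k) (b.coord i) x = O.X i := fun i => coef1_sum b (W := O.B) O.X i
  refine ⟨{
    V := V
    free := hfree
    fin := hfin
    z := z
    hz := hz
    nz := nz
    E' := E'
    ι := ι
    x := x
    hx := ?_
    nx := ?_
    univ := ?_ }, rfl, rfl⟩
  · refine coef2_ext b (W := O.B) fun i => ?_
    have hR := coef2_cres V ι (b.coord i) z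
    have hL : coef2 (k := k) (b.coord i) ((V.res ι).d 1 x : (V.V ⊗[k] E'.O) ⊗[k] E'.O) =
        O.X i ⊗ₜ[k] 1 + ∑ j, O.ι (mc V b i j) ⊗ₜ[k] O.X j - Coalgebra.comul (R := k) (O.X i) := by
      have h1 : ((V.res ι).d 1 x : (V.V ⊗[k] E'.O) ⊗[k] E'.O) = ∑ j, (V.res ι).d 1 (b j ⊗ₜ[k] O.X j) :=
        map_sum _ _ _
      rw [h1, map_sum, Finset.sum_congr rfl fun j _ => coef2_d1_res V ι (b.coord i) (b j) (O.X j)]
      rw [Finset.sum_sub_distrib]
      have h2 : ∀ j, ((b.coord i) (b j) : k) = if j = i then 1 else 0 := by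
        intro j
        rw [b.coord_apply, b.repr_self, Finsupp.single_apply]
      simp only [TensorProduct.sub_tmul, Finset.sum_sub_distrib, h2, ite_smul, one_smul, zero_smul,
        Finset.sum_ite_eq', Finset.mem_univ, if_true]
      have h3 : ∑ j, (if j = i then (1 : E'.O) else 0) ⊗ₜ[k] O.X j = (1 : E'.O) ⊗ₜ[k] O.X i := by
        rw [Finset.sum_eq_single i]
        · rw [if_pos rfl]
        · intro j _ hj
          rw [if_neg hj, TensorProduct.zero_tmul]
        · intro h
          exact absurd (Finset.mem_univ i) h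
      rw [h3]
      have h4 : ∑ j, ι (coef1 (k := k) (b.coord i) (V.co.coact (b j))) ⊗ₜ[k] O.X j =
        ∑ j, O.ι (mc V b i j) ⊗ₜ[k] O.X j := rfl
      rw [h4]
      abel
    refine hL.trans (Eq.trans ?_ hR.symm)
    have h5 := O.comul_X i
    rw [h5]
    have h6 : (coordOf V b z hz nz).a = mc V b := rfl
    rw [h6]
    change _ = Algebra.TensorProduct.map (O.ι : E.O →ₐ[k] O.B) (O.ι : E.O →ₐ[k] O.B) ((coordOf V b z hz nz).z i)
    abel
  · intro f
    have : coef1 (k := k) f x = ∑ i, f (b i) • O.X i := by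
      rw [coef1_eq_sum b f x]
      exact Finset.sum_congr rfl fun i _ => by rw [hxc]
    rw [this]
    exact isNat_sum _ _ fun i _ => isNat_smul _ (O.nat_X i)
  · intro R _ _ hR g y hy
    obtain ⟨h, ⟨h1, h2⟩, huniq⟩ := O.univ R hR g (fun i => coef1 (k := k) (b.coord i) y) (fun i => hy _)
    have hiff : ∀ h : O.B →ₐ[k] R, h.toLinearMap.lTensor V.V x = y ↔
        ∀ i, h (O.X i) = coef1 (k := k) (b.coord i) y := by
      intro h
      have e : h.toLinearMap.lTensor V.V x = ∑ i, b i ⊗ₜ[k] h (O.X i) := by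
        change h.toLinearMap.lTensor V.V (∑ i, b i ⊗ₜ[k] O.X i) = _
        rw [map_sum]
        rfl
      rw [e]
      constructor
      · intro hh i
        rw [← hh, coef1_sum b (fun i => h (O.X i)) i]
      · intro hh
        refine coef1_ext b fun i => ?_
        rw [coef1_sum b (fun i => h (O.X i)) i, hh]
    exact ⟨h, ⟨h1, (hiff h).2 h2⟩, fun h' hh' => huniq h' ⟨hh'.1, (hiff h').1 hh'.2⟩⟩

end Groth.Agent.ResProp.EF.K942
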