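import Groth.Agent.ResProp.EF.Grp

/-!
# The coordinate form of `Grp.HasOneStep` (helper942): statement `Core`

`Core k` is the construction of the Hopf algebra of `V^♯ × E` in coordinates (no comodules, no cochains):
`a i j` = matrix coefficients of `V`, `z i` = coordinates of the 2-cocycle.
`K942/Trans.lean` : `Core k → HasOneStep E`.
-/

set_option autoImplicit false

open TensorProduct

universe u

namespace Groth.Agent.ResProp.EF.K942

open Groth.Agent.ResProp.EF.Grp

/-- the value of `z ∈ A ⊗ A` at the points `g, h` -/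
noncomputable abbrev at2 {k A R : Type u} [CommRing k] [CommRing A] [Algebra k A] [CommRing R] [Algebra k R]
    (g h : A →ₐ[k] R) : A ⊗[k] A →ₐ[k] R := Algebra.TensorProduct.productMap g h

/-- the product of points of the bialgebra `A` -/
noncomputable abbrev pmul {k A R : Type u} [CommRing k] [CommRing A] [Bialgebra k A] [CommRing R] [Algebra k R]
    (g h : A →ₐ[k] R) : A →ₐ[k] R := (at2 g h).comp (Bialgebra.comulAlgHom k A)

/-- `R` has no `ℤ`-torsion -/
def TFree (R : Type u) [CommRing R] : Prop := ∀ n : ℕ, n ≠ 0 → IsSMulRegular R (n : ℕ)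

/-- coordinates of the data of a one step extension -/
structure Coord (k : Type u) [CommRing k] (A : Type u) [CommRing A] [HopfAlgebra k A] (I : Type u) [Fintype I]
    [DecidableEq I] where
  a : I → I → A
  comul_a : ∀ i j, Coalgebra.comul (R := k) (a i j) = ∑ l, a i l ⊗ₜ[k] a l j
  counit_a : ∀ i j, Coalgebra.counit (R := k) (a i j) = if i = j then 1 else 0
  z : I → A ⊗[k] A
  nat_z : ∀ i, IsNat (z i)
  cocycle : ∀ (R : Type u) [CommRing R] [Algebra k R] (g₁ g₂ g₃ : A →ₐ[k] R) (i : I),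
    ∑ j, g₁ (a i j) * at2 g₂ g₃ (z j) - at2 (pmul g₁ g₂) g₃ (z i) + at2 g₁ (pmul g₂ g₃) (z i) - at2 g₁ g₂ (z i) = 0

/-- the output: the Hopf algebra of the one step extension in coordinates -/
structure Out {k : Type u} [CommRing k] {A : Type u} [CommRing A] [HopfAlgebra k A] {I : Type u} [Fintype I]
    [DecidableEq I] (D : Coord k A I) : Type (u + 1) where
  B : Type u
  [cr : CommRing B]
  [ha : HopfAlgebra k B]
  [fr : Module.Free k B]
  ι : A →ₐc[k] B
  X : I → B
  nat_X : ∀ i, IsNat (X i)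
  comul_X : ∀ i, Coalgebra.comul (R := k) (X i) =
    X i ⊗ₜ[k] 1 + ∑ j, ι (D.a i j) ⊗ₜ[k] X j - Algebra.TensorProduct.map (ι : A →ₐ[k] B) (ι : A →ₐ[k] B) (D.z i)
  univ : ∀ (R : Type u) [CommRing R] [Algebra k R], TFree R → ∀ (g : A →ₐ[k] R) (y : I → R), (∀ i, IsNat (y i)) →
    ∃! h : B →ₐ[k] R, h.comp (ι : A →ₐ[k] B) = g ∧ ∀ i, h (X i) = y i

/-- **the core of `HasOneStep`** -/
def Core (k : Type u) [CommRing k] : Prop :=
  ∀ (A : Type u) [CommRing A] [HopfAlgebra k A] [Module.Free k A] (I : Type u) [Fintype I] [DecidableEq I]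
    (D : Coord k A I), Nonempty (Out D)

end Groth.Agent.ResProp.EF.K942
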