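import Groth.Agent.ResProp.EF.K785.Nat

/-!
# The divided power polynomial ring over a torsion free ring (S16912, block G2b; helper942)

`exists_dp`: for `A` torsion free and `I` finite there is an `A`-algebra `B`, free with basis the divided power
monomials `x^a / a!`, and with the universal property of `(A, x)` for torsion free rings.
-/

set_option autoImplicit false

open MvPolynomial Finset

namespace Groth.Agent.ResProp.EF.K942

open Groth.Agent.ResProp.EF.K785

universe u

/-- torsion free -/
def TF (R : Type u) [CommRing R] : Prop := ∀ n : ℕ, n ≠ 0 → IsSMulRegular R (n : ℕ)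

theorem TF.cancel {R : Type u} [CommRing R] (h : TF R) {n : ℕ} (hn : n ≠ 0) {x y : R}
    (e : (n : R) * x = (n : R) * y) : x = y :=
  h n hn (by simpa [nsmul_eq_mul] using e)

theorem tf_of {R : Type u} [CommRing R] (h : ∀ (n : ℕ) (x : R), n ≠ 0 → (n : R) * x = 0 → x = 0) : TF R := by
  intro n hn x y e
  have : (n : R) * (x - y) = 0 := by
    simp only [nsmul_eq_mul] at e
    rw [mul_sub, e, sub_self]
  exact sub_eq_zero.1 (h n _ hn this)

/-- nonzero natural numbers -/
def nz (R : Type u) [CommRing R] : Submonoid R := (nonZeroDivisors ℕ).map (Nat.castRingHom R : ℕ →* R)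

theorem mem_nz {R : Type u} [CommRing R] {n : ℕ} (hn : n ≠ 0) : (n : R) ∈ nz R :=
  ⟨n, by simpa using hn, rfl⟩

theorem exists_of_mem_nz {R : Type u} [CommRing R] {x : R} (hx : x ∈ nz R) : ∃ n : ℕ, n ≠ 0 ∧ x = n := by
  obtain ⟨n, hn, rfl⟩ := hx
  exact ⟨n, nonZeroDivisors.ne_zero hn, rfl⟩

/-- `R ⊗ ℚ` -/
abbrev QR (R : Type u) [CommRing R] : Type u := Localization (nz R)

theorem TF.injective {R : Type u} [CommRing R] (h : TF R) : Function.Injective (algebraMap R (QR R)) := by
  refine IsLocalization.injective (QR R) (M := nz R) ?_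
  intro x hx
  obtain ⟨n, hn, rfl⟩ := exists_of_mem_nz hx
  rw [mem_nonZeroDivisors_iff_right]
  intro y hy
  exact h.cancel hn (by rw [mul_comm, hy, mul_zero])

theorem isUnit_QR (R : Type u) [CommRing R] {n : ℕ} (hn : n ≠ 0) : IsUnit ((n : QR R)) := by
  have := IsLocalization.map_units (QR R) (⟨(n : R), mem_nz hn⟩ : nz R)
  simpa using this

/-- functoriality of `R ⊗ ℚ` -/
noncomputable def qmap {R S : Type u} [CommRing R] [CommRing S] (f : R →+* S) : QR R →+* QR S :=
  IsLocalization.map (M := nz R) (T := nz S) (QR S) f (by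
    intro x hx
    obtain ⟨n, hn, rfl⟩ := exists_of_mem_nz hx
    change f n ∈ nz S
    rw [map_natCast]
    exact mem_nz hn)

theorem qmap_algebraMap {R S : Type u} [CommRing R] [CommRing S] (f : R →+* S) (r : R) :
    qmap f (algebraMap R (QR R) r) = algebraMap S (QR S) (f r) :=
  IsLocalization.map_eq _ _

section

variable (A : Type u) [CommRing A] (I : Type u) [Fintype I]

variable {I} in
/-- `a!` -/
def fac (a : I →₀ ℕ) : ℕ := ∏ i, (a i).factorial

variable {I}

theorem fac_ne (a : I →₀ ℕ) : fac a ≠ 0 := Finset.prod_ne_zero_iff.2 fun _ _ => Nat.factorial_ne_zero _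

theorem fac_zero : fac (0 : I →₀ ℕ) = 1 := by simp [fac]

theorem fac_dvd (a b : I →₀ ℕ) : fac a * fac b ∣ fac (a + b) := by
  rw [fac, fac, fac, ← Finset.prod_mul_distrib]
  exact Finset.prod_dvd_prod_of_dvd _ _ fun _ _ => Nat.factorial_mul_factorial_dvd_factorial_add _ _

variable (I)

/-- the divided power polynomials -/
noncomputable def DP : Subalgebra A (MvPolynomial I (QR A)) where
  carrier := {f | ∀ a, ∃ c : A, algebraMap A (QR A) c = (fac a : QR A) * coeff a f}
  mul_mem' := by
    intro f g hf hg c
    choose cf hcf using hf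
    choose cg hcg using hg
    classical
    have key : ∀ x ∈ antidiagonal c, ∃ e : A,
        algebraMap A (QR A) e = (fac c : QR A) * (coeff x.1 f * coeff x.2 g) := by
      intro x hx
      have hc : c = x.1 + x.2 := (mem_antidiagonal.1 hx).symm
      obtain ⟨m, hm⟩ := fac_dvd x.1 x.2
      refine ⟨(m : A) * (cf x.1 * cg x.2), ?_⟩
      rw [map_mul, map_mul, hcf, hcg, map_natCast, hc, hm]
      push_cast
      ring
    choose! e he using key
    refine ⟨∑ x ∈ antidiagonal c, e x, ?_⟩
    rw [map_sum, coeff_mul, Finset.mul_sum]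
    exact Finset.sum_congr rfl he
  add_mem' := by
    intro f g hf hg a
    obtain ⟨x, hx⟩ := hf a
    obtain ⟨y, hy⟩ := hg a
    exact ⟨x + y, by rw [map_add, hx, hy, coeff_add, mul_add]⟩
  algebraMap_mem' := by
    intro r a
    classical
    rw [MvPolynomial.algebraMap_apply, coeff_C]
    split_ifs with h
    · subst h
      exact ⟨r, by simp [fac_zero]⟩
    · exact ⟨0, by simp⟩

theorem mem_DP {f : MvPolynomial I (QR A)} :
    f ∈ DP A I ↔ ∀ a, ∃ c : A, algebraMap A (QR A) c = (fac a : QR A) * coeff a f := Iff.rfl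

variable {I}

/-- `1 / a!` -/
noncomputable def ufac (a : I →₀ ℕ) : QR A := ↑(isUnit_QR A (fac_ne a)).unit⁻¹

theorem ufac_mul (a : I →₀ ℕ) : (fac a : QR A) * ufac A a = 1 :=
  (isUnit_QR A (fac_ne a)).mul_val_inv

theorem ufac_zero : ufac A (0 : I →₀ ℕ) = 1 := by
  have := ufac_mul A (0 : I →₀ ℕ)
  rwa [fac_zero, Nat.cast_one, one_mul] at this

/-- the divided power monomials -/
noncomputable def dm (a : I →₀ ℕ) : DP A I :=
  ⟨monomial a (ufac A a), by
    classical
    rw [mem_DP]
    intro b
    rw [coeff_monomial]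
    split_ifs with h
    · subst h
      exact ⟨1, by rw [map_one, ufac_mul]⟩
    · exact ⟨0, by simp⟩⟩

theorem coe_dm (a : I →₀ ℕ) : (dm A a : MvPolynomial I (QR A)) = monomial a (ufac A a) := rfl

theorem coeff_smul_dm_self (c : A) (a : I →₀ ℕ) :
    coeff a ((c • dm A a : DP A I) : MvPolynomial I (QR A)) = algebraMap A (QR A) c * ufac A a := by
  classical
  rw [Subalgebra.coe_smul, coe_dm, Algebra.smul_def, MvPolynomial.algebraMap_apply, coeff_C_mul, coeff_monomial, if_pos rfl]

theorem coeff_smul_dm_ne (c : A) {a b : I →₀ ℕ} (h : a ≠ b) :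
    coeff b ((c • dm A a : DP A I) : MvPolynomial I (QR A)) = 0 := by
  classical
  rw [Subalgebra.coe_smul, coe_dm, Algebra.smul_def, MvPolynomial.algebraMap_apply, coeff_C_mul, coeff_monomial, if_neg h,
    mul_zero]

theorem coeff_sum_dm (s : Finset (I →₀ ℕ)) (g : (I →₀ ℕ) → A) (a : I →₀ ℕ) (h : a ∉ s → g a = 0) :
    coeff a ((∑ i ∈ s, g i • dm A i : DP A I) : MvPolynomial I (QR A)) = algebraMap A (QR A) (g a) * ufac A a := by
  classical
  rw [AddSubmonoidClass.coe_finsetSum, coeff_sum, Finset.sum_eq_single a, coeff_smul_dm_self]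
  · intro b _ hb
    exact coeff_smul_dm_ne A _ hb
  · intro ha
    rw [h ha, coeff_smul_dm_self, map_zero, zero_mul]

theorem linearIndependent_dm (hA : TF A) : LinearIndependent A (dm A : (I →₀ ℕ) → DP A I) := by
  classical
  rw [linearIndependent_iff_injective_finsuppLinearCombination]
  intro l l' h
  have hc : ∀ (l : (I →₀ ℕ) →₀ A) (a : I →₀ ℕ),
      coeff a ((Finsupp.linearCombination A (dm A : (I →₀ ℕ) → DP A I) l : DP A I) : MvPolynomial I (QR A)) =
        algebraMap A (QR A) (l a) * ufac A a := by
    intro l a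
    rw [Finsupp.linearCombination_apply, Finsupp.sum]
    exact coeff_sum_dm A _ _ a (fun h => by simpa using h)
  ext a
  have h1 := hc l a
  rw [h, hc l' a] at h1
  refine hA.injective ?_
  have := congrArg (fun x => (fac a : QR A) * x) h1
  rw [mul_left_comm, ufac_mul, mul_one, mul_left_comm, ufac_mul, mul_one] at this
  exact this.symm

theorem span_dm : ⊤ ≤ Submodule.span A (Set.range (dm A : (I →₀ ℕ) → DP A I)) := by
  classical
  intro f _
  have hf := f.2
  rw [mem_DP] at hf
  choose c hc using hf
  let c' : (I →₀ ℕ) → A := fun a => if a ∈ (f : MvPolynomial I (QR A)).support then c a else 0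
  have : f = ∑ a ∈ (f : MvPolynomial I (QR A)).support, c' a • dm A a := by
    apply Subtype.ext
    ext b
    rw [coeff_sum_dm A _ c' b (fun h => if_neg h)]
    by_cases hb : b ∈ (f : MvPolynomial I (QR A)).support
    · simp only [c', if_pos hb]
      rw [hc, mul_right_comm, ufac_mul, one_mul]
    · simp only [c', if_neg hb, map_zero, zero_mul]
      simpa using hb
  rw [this]
  exact Submodule.sum_mem _ fun a _ => Submodule.smul_mem _ _ (Submodule.subset_span ⟨a, rfl⟩)

/-- the basis of divided power monomials -/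
noncomputable def dbas (hA : TF A) : Module.Basis (I →₀ ℕ) A (DP A I) :=
  Module.Basis.mk (linearIndependent_dm A hA) (span_dm A)

theorem dbas_apply (hA : TF A) (a : I →₀ ℕ) : dbas A hA a = dm A a := Module.Basis.mk_apply _ _ _

/-- the variables -/
noncomputable def dX (i : I) : DP A I := dm A (Finsupp.single i 1)

theorem fac_single (i : I) (n : ℕ) : fac (Finsupp.single i n) = n.factorial := by
  classical
  rw [fac, Finset.prod_eq_single i]
  · simp
  · intro j _ hj
    rw [Finsupp.single_eq_of_ne hj]
    rfl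
  · intro h
    exact absurd (Finset.mem_univ i) h

theorem ufac_single_one (i : I) : ufac A (Finsupp.single i 1) = 1 := by
  have := ufac_mul A (Finsupp.single i 1)
  rwa [fac_single, Nat.factorial_one, Nat.cast_one, one_mul] at this

theorem coe_dX (i : I) : (dX A i : MvPolynomial I (QR A)) = X i := by
  rw [dX, coe_dm, ufac_single_one]
  rfl

theorem tf_QR (R : Type u) [CommRing R] : TF (QR R) := by
  refine tf_of fun n x hn h => ?_
  exact (isUnit_QR R hn).mul_right_eq_zero.1 h

omit [Fintype I] in
theorem tf_mvPolynomial (R : Type u) [CommRing R] (h : TF R) : TF (MvPolynomial I R) := by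
  refine tf_of fun n f hn e => ?_
  ext a
  have : coeff a ((n : MvPolynomial I R) * f) = 0 := by rw [e]; simp
  rw [← map_natCast (C : R →+* MvPolynomial I R) n, coeff_C_mul] at this
  rw [coeff_zero]
  exact h.cancel hn (by rw [this, mul_zero])

theorem tf_DP : TF (DP A I) := by
  refine tf_of fun n f hn e => ?_
  have h := tf_mvPolynomial (I := I) (QR A) (tf_QR A)
  apply Subtype.ext
  refine h.cancel hn ?_
  have := congrArg (fun x : DP A I => (x : MvPolynomial I (QR A))) e
  simpa using this

theorem fac_mul_dm (a : I →₀ ℕ) : (fac a : DP A I) * dm A a = ∏ i, dX A i ^ a i := by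
  apply Subtype.ext
  have : ((∏ i, dX A i ^ a i : DP A I) : MvPolynomial I (QR A)) = ∏ i, X i ^ a i := by
    rw [SubmonoidClass.coe_finsetProd]
    refine Finset.prod_congr rfl fun i _ => ?_
    rw [SubmonoidClass.coe_pow, coe_dX]
  rw [this]
  have h2 : (((fac a : DP A I) * dm A a : DP A I) : MvPolynomial I (QR A)) = (fac a : MvPolynomial I (QR A)) * monomial a (ufac A a) := by
    rw [← coe_dm]
    push_cast
    rfl
  rw [h2, ← map_natCast (C : QR A →+* MvPolynomial I (QR A)), C_mul_monomial, ufac_mul, monomial_eq, C_1, one_mul]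
  rw [Finsupp.prod_fintype _ _ (fun i => pow_zero _)]

theorem dX_mem_natI (i : I) : dX A i ∈ natI (DP A I) := by
  classical
  intro n
  refine ⟨dm A (Finsupp.single i n), ?_⟩
  have h := fac_mul_dm A (Finsupp.single i n)
  rw [fac_single] at h
  rw [h, Finset.prod_eq_single i]
  · simp
  · intro j _ hj
    rw [Finsupp.single_eq_of_ne hj, pow_zero]
  · intro h
    exact absurd (Finset.mem_univ i) h

/-- uniqueness -/
theorem hom_ext {R : Type u} [CommRing R] (hR : TF R) {h h' : DP A I →+* R}
    (e : h.comp (algebraMap A (DP A I)) = h'.comp (algebraMap A (DP A I))) (eX : ∀ i, h (dX A i) = h' (dX A i)) :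
    h = h' := by
  have hd : ∀ a, h (dm A a) = h' (dm A a) := by
    intro a
    refine hR.cancel (fac_ne a) ?_
    rw [← map_natCast h, ← map_mul, fac_mul_dm, map_prod]
    rw [map_natCast h, ← map_natCast h', ← map_mul, fac_mul_dm, map_prod]
    refine Finset.prod_congr rfl fun i _ => ?_
    rw [map_pow, map_pow, eX]
  ext f
  have hf : f ∈ Submodule.span A (Set.range (dm A : (I →₀ ℕ) → DP A I)) := span_dm A trivial
  induction hf using Submodule.span_induction with
  | mem x hx =>
    obtain ⟨a, rfl⟩ := hx
    exact hd a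
  | zero => simp
  | add x y _ _ hx hy => rw [map_add, map_add, hx, hy]
  | smul c x _ hx =>
    rw [Algebra.smul_def, map_mul, map_mul, hx]
    have := RingHom.congr_fun e c
    simp only [RingHom.comp_apply] at this
    rw [this]

/-- existence -/
theorem exists_hom {R : Type u} [CommRing R] (hR : TF R) (g : A →+* R) (y : I → R) (hy : ∀ i, y i ∈ natI R) :
    ∃ h : DP A I →+* R, h.comp (algebraMap A (DP A I)) = g ∧ ∀ i, h (dX A i) = y i := by
  classical
  let φ : MvPolynomial I (QR A) →+* QR R := eval₂Hom (qmap g) (fun i => algebraMap R (QR R) (y i))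
  have hrange : ∀ f : DP A I, ∃ r : R, algebraMap R (QR R) r = φ f := by
    intro f
    have hf : f ∈ Submodule.span A (Set.range (dm A : (I →₀ ℕ) → DP A I)) := span_dm A trivial
    induction hf using Submodule.span_induction with
    | mem x hx =>
      obtain ⟨a, rfl⟩ := hx
      choose w hw using fun i => hy i (a i)
      refine ⟨∏ i, w i, ?_⟩
      refine (tf_QR R).cancel (fac_ne a) ?_
      have h1 := congrArg (fun x : DP A I => φ x) (fac_mul_dm A a)
      have h2 : φ (((fac a : DP A I) * dm A a : DP A I) : MvPolynomial I (QR A)) = (fac a : QR R) * φ (dm A a) := by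
        rw [Subalgebra.coe_mul, map_mul]
        congr 1
        rw [SubringClass.coe_natCast, map_natCast]
      have h3 : φ ((∏ i, dX A i ^ a i : DP A I) : MvPolynomial I (QR A)) = ∏ i, algebraMap R (QR R) (y i) ^ a i := by
        rw [SubmonoidClass.coe_finsetProd, map_prod]
        refine Finset.prod_congr rfl fun i _ => ?_
        rw [SubmonoidClass.coe_pow, map_pow, coe_dX]
        simp [φ]
      rw [← h2, h1, h3]
      have h4 : (∏ i, algebraMap R (QR R) (y i) ^ a i) = algebraMap R (QR R) (∏ i, y i ^ a i) := by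
        rw [map_prod]
        simp only [map_pow]
      rw [h4]
      have h5 : (∏ i, y i ^ a i) = (fac a : R) * ∏ i, w i := by
        rw [fac]
        push_cast
        rw [← Finset.prod_mul_distrib]
        exact Finset.prod_congr rfl fun i _ => hw i
      rw [h5, map_mul, map_natCast]
    | zero => exact ⟨0, by simp⟩
    | add x y _ _ hx hy =>
      obtain ⟨r, hr⟩ := hx
      obtain ⟨s, hs⟩ := hy
      exact ⟨r + s, by rw [map_add, hr, hs, Subalgebra.coe_add, map_add]⟩
    | smul c x _ hx =>
      obtain ⟨r, hr⟩ := hx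
      refine ⟨g c * r, ?_⟩
      rw [map_mul, hr, Subalgebra.coe_smul, Algebra.smul_def, map_mul, MvPolynomial.algebraMap_apply]
      congr 1
      simp only [φ, coe_eval₂Hom, eval₂_C]
      rw [qmap_algebraMap]
  let ψ : DP A I →+* QR R := φ.comp (DP A I).val.toRingHom
  have hψ : ∀ f : DP A I, ψ f ∈ (algebraMap R (QR R)).range := fun f => by
    obtain ⟨r, hr⟩ := hrange f
    exact ⟨r, hr⟩
  have hinj := hR.injective
  let e : R ≃+* (algebraMap R (QR R)).range :=
    RingEquiv.ofBijective (algebraMap R (QR R)).rangeRestrict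
      ⟨fun x y h => hinj (by simpa using congrArg Subtype.val h), RingHom.rangeRestrict_surjective _⟩
  let h : DP A I →+* R := e.symm.toRingHom.comp (ψ.codRestrict _ hψ)
  have he : ∀ f r, ψ f = algebraMap R (QR R) r → h f = r := by
    intro f r hr
    change e.symm (ψ.codRestrict _ hψ f) = r
    rw [RingEquiv.symm_apply_eq]
    apply Subtype.ext
    exact hr
  refine ⟨h, ?_, ?_⟩
  · ext c
    refine he _ _ ?_
    change φ ((algebraMap A (DP A I) c : DP A I) : MvPolynomial I (QR A)) = _
    rw [Subalgebra.coe_algebraMap, MvPolynomial.algebraMap_apply]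
    simp only [φ, coe_eval₂Hom, eval₂_C]
    rw [qmap_algebraMap]
  · intro i
    refine he _ _ ?_
    change φ ((dX A i : DP A I) : MvPolynomial I (QR A)) = _
    rw [coe_dX]
    simp [φ]

end

end Groth.Agent.ResProp.EF.K942
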