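import Groth.Agent.ResProp.EF.K942.Trans
import Groth.Agent.ResProp.EF.K187.OneStepHopf

/-!
# `Grp.HasOneStep E` (node J7): `K942.Trans` + `K187.core`
-/

set_option autoImplicit false

universe u

namespace Groth.Agent.ResProp.EF.K942

open Groth.Agent.ResProp.EF.Grp

/-- **existence of one step extensions** -/
theorem hasOneStep {k : Type u} [CommRing k] [IsDomain k] [CharZero k] (E : Gp k) : HasOneStep E :=
  hasOneStep_of_core (K187.core k) E

end Groth.Agent.ResProp.EF.K942
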